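import Mathlib

/-! Additivity of intersection lengths in a domain. -/

set_option autoImplicit false
universe u

namespace Groth.Agent.IntLen

theorem length_mul_add {A : Type u} [CommRing A] [IsDomain A] [UniqueFactorizationMonoid A]
    (f g h : A) (hfg : IsRelPrime f g) :
    Module.length A (A ⧸ Ideal.span ({f * h, g} : Set A)) =
      Module.length A (A ⧸ Ideal.span ({f, g} : Set A)) + Module.length A (A ⧸ Ideal.span ({h, g} : Set A)) := by
  let mul : (A ⧸ Ideal.span ({h, g} : Set A)) →ₗ[A] A ⧸ Ideal.span ({f * h, g} : Set A) :=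
    Submodule.mapQ _ _ (f • LinearMap.id) (by
      refine Submodule.span_le.2 ?_
      rintro x (rfl | rfl)
      · exact Ideal.subset_span (Set.mem_insert _ _)
      · show f * x ∈ Ideal.span ({f * h, x} : Set A)
        exact Ideal.mul_mem_left _ _ (Ideal.subset_span (Set.mem_insert_of_mem _ rfl)))
  have hle : Ideal.span ({f * h, g} : Set A) ≤ Ideal.span ({f, g} : Set A) := by
    refine Submodule.span_le.2 ?_
    rintro x (rfl | rfl)
    · exact Ideal.mul_mem_right _ _ (Ideal.subset_span (Set.mem_insert _ _))
    · exact Ideal.subset_span (Set.mem_insert_of_mem _ rfl)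
  let q : (A ⧸ Ideal.span ({f * h, g} : Set A)) →ₗ[A] A ⧸ Ideal.span ({f, g} : Set A) :=
    Submodule.mapQ _ _ LinearMap.id hle
  have hmul : ∀ a : A, mul (Submodule.Quotient.mk a) = Submodule.Quotient.mk (f * a) := fun a => rfl
  have hq : ∀ a : A, q (Submodule.Quotient.mk a) = Submodule.Quotient.mk a := fun a => rfl
  have hinj : Function.Injective mul := by
    refine (injective_iff_map_eq_zero mul).2 fun x => ?_
    obtain ⟨a, rfl⟩ := Submodule.Quotient.mk_surjective _ x
    rw [hmul, Submodule.Quotient.mk_eq_zero, Submodule.Quotient.mk_eq_zero, Ideal.mem_span_pair,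
      Ideal.mem_span_pair]
    rintro ⟨x, y, hxy⟩
    by_cases hf : f = 0
    · obtain ⟨w, hw⟩ := (isRelPrime_zero_left.1 (hf ▸ hfg)).exists_left_inv
      exact ⟨0, a * w, by linear_combination a * hw⟩
    obtain ⟨t, ht⟩ : f ∣ y := hfg.dvd_of_dvd_mul_right ⟨a - x * h, by linear_combination hxy⟩
    refine ⟨x, t, mul_left_cancel₀ hf ?_⟩
    rw [← hxy, ht]
    ring
  have hsurj : Function.Surjective q := fun x => by
    obtain ⟨a, rfl⟩ := Submodule.Quotient.mk_surjective _ x
    exact ⟨_, hq a⟩
  have hex : Function.Exact mul q := by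
    intro x
    obtain ⟨a, rfl⟩ := Submodule.Quotient.mk_surjective _ x
    rw [hq, Submodule.Quotient.mk_eq_zero, Ideal.mem_span_pair]
    constructor
    · rintro ⟨x, y, hxy⟩
      refine ⟨Submodule.Quotient.mk x, ?_⟩
      rw [hmul, Submodule.Quotient.eq, Ideal.mem_span_pair]
      exact ⟨0, -y, by linear_combination -hxy⟩
    · rintro ⟨z, hz⟩
      obtain ⟨z, rfl⟩ := Submodule.Quotient.mk_surjective _ z
      rw [hmul, Submodule.Quotient.eq, Ideal.mem_span_pair] at hz
      obtain ⟨x, y, hxy⟩ := hz
      exact ⟨z - x * h, -y, by linear_combination -hxy⟩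
  rw [Module.length_eq_add_of_exact mul q hinj hsurj hex, add_comm]

/-- Additivity over a finite product in the first variable. -/
theorem length_prod {A : Type u} [CommRing A] [IsDomain A] [UniqueFactorizationMonoid A]
    {ι : Type*} (s : Finset ι) (f : ι → A) (g : A) (h : ∀ i ∈ s, IsRelPrime (f i) g) :
    Module.length A (A ⧸ Ideal.span ({∏ i ∈ s, f i, g} : Set A)) =
      ∑ i ∈ s, Module.length A (A ⧸ Ideal.span ({f i, g} : Set A)) := by
  classical
  induction s using Finset.induction_on with
  | empty =>
    rw [Finset.prod_empty, Finset.sum_empty, Module.length_eq_zero_iff]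
    have : Ideal.span ({(1 : A), g} : Set A) = ⊤ :=
      (Ideal.eq_top_iff_one _).2 (Ideal.subset_span (Set.mem_insert _ _))
    rw [this]
    exact Submodule.Quotient.subsingleton_iff.2 rfl
  | insert i t hit ih =>
    rw [Finset.prod_insert hit, Finset.sum_insert hit,
      length_mul_add (f i) g _ (h i (Finset.mem_insert_self i t)),
      ih fun j hj => h j (Finset.mem_insert_of_mem hj)]

end Groth.Agent.IntLen

namespace Groth.Agent.IntLen

variable {A : Type u} [CommRing A]

theorem dvd_prod_univ {n : ℕ} (f : Fin n → A) (i : Fin n) :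
    Ideal.span {∏ j, f j} ≤ Ideal.span {f i} :=
  Ideal.span_singleton_le_span_singleton.mpr (Finset.dvd_prod_of_mem f (Finset.mem_univ i))

/-- The map from the quotient by a product to the product of the quotients. -/
def φ {n : ℕ} (f : Fin n → A) :
    (A ⧸ Ideal.span {∏ i, f i}) →ₗ[A] ((i : Fin n) → A ⧸ Ideal.span {f i}) :=
  LinearMap.pi fun i => Submodule.mapQ _ _ LinearMap.id (dvd_prod_univ f i)

theorem φ_mk {n : ℕ} (f : Fin n → A) (a : A) (i : Fin n) :
    φ f (Submodule.Quotient.mk a) i = Submodule.Quotient.mk a := rfl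

theorem φ_injective [IsDomain A] [UniqueFactorizationMonoid A] {n : ℕ} (f : Fin n → A)
    (hcop : ∀ i j, i ≠ j → IsRelPrime (f i) (f j)) : Function.Injective (φ f) := by
  refine (injective_iff_map_eq_zero _).2 fun x hx => ?_
  obtain ⟨a, rfl⟩ := Submodule.Quotient.mk_surjective _ x
  refine (Submodule.Quotient.mk_eq_zero _).2 (Ideal.mem_span_singleton.2 ?_)
  refine Fintype.prod_dvd_of_isRelPrime (fun i j hij => hcop i j hij) fun i => ?_
  have h := congrFun hx i
  rw [φ_mk, Pi.zero_apply, Submodule.Quotient.mk_eq_zero, Ideal.mem_span_singleton] at h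
  exact h

theorem sum_pairs_succ {M : Type*} [AddCommMonoid M] {n : ℕ} (F : Fin (n + 1) → Fin (n + 1) → M) :
    (∑ j, ∑ i with i < j, F i j) =
      (∑ j : Fin n, ∑ i with i < j, F i.castSucc j.castSucc) + ∑ i : Fin n, F i.castSucc (Fin.last n) := by
  classical
  rw [Fin.sum_univ_castSucc]
  congr 1
  · refine Finset.sum_congr rfl fun j _ => ?_
    rw [Finset.sum_filter, Finset.sum_filter, Fin.sum_univ_castSucc,
      if_neg (not_lt.2 (Fin.le_last _)), add_zero]
    rfl
  · rw [Finset.sum_filter, Fin.sum_univ_castSucc, if_neg (lt_irrefl _), add_zero]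
    exact Finset.sum_congr rfl fun i _ => if_pos (Fin.castSucc_lt_last i)

theorem length_coker [IsDomain A] [UniqueFactorizationMonoid A] : ∀ {n : ℕ} (f : Fin n → A)
    (_ : ∀ i j, i ≠ j → IsRelPrime (f i) (f j)),
    Module.length A (((i : Fin n) → A ⧸ Ideal.span {f i}) ⧸ LinearMap.range (φ f)) =
      ∑ j, ∑ i with i < j, Module.length A (A ⧸ Ideal.span ({f i, f j} : Set A))
  | 0, f, _ => by
    rw [Fin.sum_univ_zero, Module.length_eq_zero_iff]
    infer_instance
  | n + 1, f, hcop => by
    classical
    have hcop' : ∀ i j : Fin n, i ≠ j → IsRelPrime (f i.castSucc) (f j.castSucc) :=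
      fun i j hij => hcop _ _ fun h => hij (Fin.castSucc_injective _ h)
    set F := ∏ i : Fin n, f i.castSucc with hF
    let e := f (Fin.last n)
    have hFdvd : ∀ i : Fin n, f i.castSucc ∣ F := fun i => Finset.dvd_prod_of_mem _ (Finset.mem_univ i)
    let S : A →ₗ[A] ((i : Fin (n + 1)) → A ⧸ Ideal.span {f i}) :=
      (LinearMap.single A (fun i => A ⧸ Ideal.span {f i}) (Fin.last n)) ∘ₗ Submodule.mkQ _
    have hS : ∀ x : A, F ∣ x → S x = φ f (Submodule.Quotient.mk x) := by
      intro x hx
      funext i
      rw [φ_mk]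
      induction i using Fin.lastCases with
      | last => simp [S]
      | cast i =>
        rw [show S x i.castSucc = 0 from Pi.single_eq_of_ne (Fin.castSucc_ne_last i) _]
        exact ((Submodule.Quotient.mk_eq_zero _).2 (Ideal.mem_span_singleton.2 ((hFdvd i).trans hx))).symm
    let j : (A ⧸ Ideal.span ({F, e} : Set A)) →ₗ[A]
        ((i : Fin (n + 1)) → A ⧸ Ideal.span {f i}) ⧸ LinearMap.range (φ f) :=
      Submodule.liftQ _ (Submodule.mkQ _ ∘ₗ S) (by
        refine Submodule.span_le.2 ?_
        rintro x (rfl | rfl)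
        · exact (Submodule.Quotient.mk_eq_zero _).2 ⟨_, (hS F dvd_rfl).symm⟩
        · have h0 : S e = 0 := by
            have he : (Submodule.Quotient.mk e : A ⧸ Ideal.span {f (Fin.last n)}) = 0 :=
              (Submodule.Quotient.mk_eq_zero _).2 (Ideal.subset_span rfl)
            simp only [S, LinearMap.comp_apply, Submodule.mkQ_apply]
            erw [he, map_zero]
          refine (Submodule.Quotient.mk_eq_zero _).2 ?_
          rw [h0]
          exact zero_mem _)
    let ini : ((i : Fin (n + 1)) → A ⧸ Ideal.span {f i}) →ₗ[A] ((i : Fin n) → A ⧸ Ideal.span {f i.castSucc}) :=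
      LinearMap.pi fun i => LinearMap.proj i.castSucc
    have hini : ∀ a : A, ini (φ f (Submodule.Quotient.mk a)) = φ (fun i => f i.castSucc) (Submodule.Quotient.mk a) :=
      fun a => rfl
    let q : ((i : Fin (n + 1)) → A ⧸ Ideal.span {f i}) ⧸ LinearMap.range (φ f) →ₗ[A]
        ((i : Fin n) → A ⧸ Ideal.span {f i.castSucc}) ⧸ LinearMap.range (φ fun i => f i.castSucc) :=
      Submodule.mapQ _ _ ini (by
        rintro _ ⟨x, rfl⟩
        obtain ⟨a, rfl⟩ := Submodule.Quotient.mk_surjective _ x
        exact ⟨_, (hini a).symm⟩)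
    have hj : Function.Injective j := by
      refine (injective_iff_map_eq_zero j).2 fun x hx => ?_
      obtain ⟨b, rfl⟩ := Submodule.Quotient.mk_surjective _ x
      obtain ⟨y, hy⟩ := (Submodule.Quotient.mk_eq_zero _).1 hx
      obtain ⟨a, rfl⟩ := Submodule.Quotient.mk_surjective _ y
      have ha : F ∣ a := by
        refine Fintype.prod_dvd_of_isRelPrime (fun i k hik => hcop' i k hik) fun i => ?_
        have h := congrFun hy i.castSucc
        rw [φ_mk, show S b i.castSucc = 0 from Pi.single_eq_of_ne (Fin.castSucc_ne_last i) _,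
          Submodule.Quotient.mk_eq_zero, Ideal.mem_span_singleton] at h
        exact h
      have h := congrFun hy (Fin.last n)
      rw [φ_mk, show S b (Fin.last n) = Submodule.Quotient.mk b from Pi.single_eq_same _ _,
        Submodule.Quotient.eq] at h
      obtain ⟨c, hc⟩ := Ideal.mem_span_singleton.1 h
      obtain ⟨d, hd⟩ := ha
      refine (Submodule.Quotient.mk_eq_zero _).2 (Ideal.mem_span_pair.2 ⟨d, -c, ?_⟩)
      show d * F + -c * f (Fin.last n) = b
      linear_combination hc - hd
    have hq : Function.Surjective q := by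
      intro x
      obtain ⟨y, rfl⟩ := Submodule.Quotient.mk_surjective _ x
      refine ⟨Submodule.Quotient.mk (Fin.lastCases (motive := fun i => A ⧸ Ideal.span {f i}) 0 y), ?_⟩
      show Submodule.Quotient.mk _ = _
      congr 1
      funext i
      simp [ini]
    have hex : Function.Exact j q := by
      intro x
      obtain ⟨y, rfl⟩ := Submodule.Quotient.mk_surjective _ x
      constructor
      · intro h
        obtain ⟨w, hw⟩ := (Submodule.Quotient.mk_eq_zero _).1 h
        obtain ⟨a, rfl⟩ := Submodule.Quotient.mk_surjective _ w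
        obtain ⟨b, hb⟩ := Submodule.Quotient.mk_surjective _ ((y - φ f (Submodule.Quotient.mk a)) (Fin.last n))
        refine ⟨Submodule.Quotient.mk b, (Submodule.Quotient.eq _).2 ⟨-Submodule.Quotient.mk a, ?_⟩⟩
        funext i
        rw [map_neg, Pi.neg_apply, Pi.sub_apply]
        induction i using Fin.lastCases with
        | last =>
          rw [show S b (Fin.last n) = Submodule.Quotient.mk b from Pi.single_eq_same _ _, hb, Pi.sub_apply]
          abel
        | cast i =>
          rw [show S b i.castSucc = 0 from Pi.single_eq_of_ne (Fin.castSucc_ne_last i) _]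
          have := congrFun hw i
          rw [← hini] at this
          rw [show φ f (Submodule.Quotient.mk a) i.castSucc = y i.castSucc from this]
          abel
      · rintro ⟨z, hz⟩
        obtain ⟨b, rfl⟩ := Submodule.Quotient.mk_surjective _ z
        rw [← hz]
        show Submodule.Quotient.mk (ini (S b)) = 0
        rw [show ini (S b) = 0 from funext fun i => Pi.single_eq_of_ne (Fin.castSucc_ne_last i) _]
        exact Submodule.Quotient.mk_zero _
    rw [Module.length_eq_add_of_exact j q hj hq hex, length_coker _ hcop',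
      length_prod Finset.univ (fun i : Fin n => f i.castSucc) e
        (fun i _ => hcop _ _ (Fin.castSucc_ne_last i)),
      sum_pairs_succ (fun i j => Module.length A (A ⧸ Ideal.span ({f i, f j} : Set A))), add_comm]

theorem sum_pairs {M : Type*} [AddCommMonoid M] {n : ℕ} (F : Fin n → Fin n → M) :
    (∑ p ∈ (Finset.univ : Finset (Fin n × Fin n)) with p.1 < p.2, F p.1 p.2) =
      ∑ j, ∑ i with i < j, F i j := by
  classical
  rw [Finset.sum_filter, Fintype.sum_prod_type_right]
  simp only [Finset.sum_filter]

end Groth.Agent.IntLen
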